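import Groth.Agent.QRlimLib.Rlim
import Groth.Agent.FormalLimVanishLib.Main
import Groth.Agent.QCohLib.SerreCrit
import Groth.Agent.QCohLib.OpenRestr
import Groth.Agent.QCohLib.Coherent
import Groth.Agent.QCohLib.Support
import Mathlib.Algebra.Homology.DerivedCategory.SingleTriangle

/-!
# The limit of a surjective tower of quasi-coherent modules is its derived limit
-/

set_option autoImplicit false
set_option linter.unusedSectionVars false
set_option linter.style.haveILetI false
set_option maxHeartbeats 1000000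

universe u

open CategoryTheory CategoryTheory.Limits AlgebraicGeometry TopologicalSpace Opposite Pretriangulated

attribute [local instance] HasDerivedCategory.standard

noncomputable section

namespace RlimQcohLib

variable {X : Scheme.{u}}

theorem tr_ofOpSequence (F : ℕ → X.Modules) (t : ∀ n, F (n + 1) ⟶ F n) (n : ℕ) :
    FormalLimVanishLib.tr (Functor.ofOpSequence t) n = t n :=
  Functor.ofOpSequence_map_homOfLE_succ t n

/-- The projection. -/
def pr (F : ℕ → X.Modules) (t : ∀ n, F (n + 1) ⟶ F n) (n : ℕ) : limit (Functor.ofOpSequence t) ⟶ F n :=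
  limit.π (Functor.ofOpSequence t) (op n)

theorem pr_ext {F : ℕ → X.Modules} {t : ∀ n, F (n + 1) ⟶ F n} {W : X.Modules}
    {g g' : W ⟶ limit (Functor.ofOpSequence t)} (h : ∀ n, g ≫ pr F t n = g' ≫ pr F t n) : g = g' :=
  limit.hom_ext fun ⟨n⟩ => h n

/-- A compatible family of maps gives a map to the limit. -/
def liftSeq (F : ℕ → X.Modules) (t : ∀ n, F (n + 1) ⟶ F n) {W : X.Modules} (φ : ∀ n, W ⟶ F n)
    (h : ∀ n, φ (n + 1) ≫ t n = φ n) : W ⟶ limit (Functor.ofOpSequence t) :=
  limit.lift (Functor.ofOpSequence t) ⟨W, NatTrans.ofOpSequence (G := Functor.ofOpSequence t) (fun n => φ n) fun n => by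
    refine (Category.id_comp _).trans ((h n).symm.trans ?_)
    exact congrArg (φ (n + 1) ≫ ·) (tr_ofOpSequence F t n).symm⟩

theorem liftSeq_π (F : ℕ → X.Modules) (t : ∀ n, F (n + 1) ⟶ F n) {W : X.Modules} (φ : ∀ n, W ⟶ F n)
    (h : ∀ n, φ (n + 1) ≫ t n = φ n) (n : ℕ) :
    liftSeq F t φ h ≫ pr F t n = φ n :=
  limit.lift_π _ (op n)

theorem π_tr (F : ℕ → X.Modules) (t : ∀ n, F (n + 1) ⟶ F n) (n : ℕ) :
    pr F t (n + 1) ≫ t n = pr F t n :=
  ((congrArg (limit.π (Functor.ofOpSequence t) (op (n + 1)) ≫ ·) (tr_ofOpSequence F t n)).symm.trans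
    (limit.w (Functor.ofOpSequence t) (homOfLE (Nat.le_succ n)).op))

variable (F : ℕ → X.Modules) (t : ∀ n, F (n + 1) ⟶ F n)

/-- Dropping the first term does not change the limit. -/
theorem nonempty_shift_iso :
    Nonempty (limit (Functor.ofOpSequence (X := fun n => F (n + 1)) (fun n => t (n + 1))) ≅
      limit (Functor.ofOpSequence t)) := by
  let F' := fun n => F (n + 1)
  let t' : ∀ n, F' (n + 1) ⟶ F' n := fun n => t (n + 1)
  let φ : ∀ n, limit (Functor.ofOpSequence t') ⟶ F n :=
    fun n => Nat.casesOn n (pr F' t' 0 ≫ t 0) fun m => pr F' t' m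
  have hφ : ∀ n, φ (n + 1) ≫ t n = φ n := fun n => by
    cases n with
    | zero => rfl
    | succ m => exact π_tr F' t' m
  refine ⟨⟨liftSeq F t φ hφ, liftSeq F' t' (fun n => pr F t (n + 1)) (fun n => π_tr F t (n + 1)),
    pr_ext fun n => ?_, pr_ext fun n => ?_⟩⟩
  · rw [Category.assoc, liftSeq_π, Category.id_comp]
    exact liftSeq_π F t φ hφ (n + 1)
  · rw [Category.assoc, liftSeq_π, Category.id_comp]
    cases n with
    | zero =>
      change _ ≫ pr F' t' 0 ≫ t 0 = _
      rw [← Category.assoc, liftSeq_π]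
      exact π_tr F t 0
    | succ m => exact liftSeq_π F' t' _ _ m

variable (hF : ∀ n, Coh.IsQCoh (F n)) (ht : ∀ n, 1 ≤ n → Epi (t n))

include hF ht in
theorem surj_affine (n : ℕ) (hn : 1 ≤ n) {U : X.Opens} (hU : IsAffineOpen U) :
    Function.Surjective ((t n).app U) := by
  haveI := ht n hn
  haveI := hF n
  haveI := hF (n + 1)
  let S : ShortComplex X.Modules := ShortComplex.mk (kernel.ι (t n)) (t n) (kernel.condition _)
  have hS : S.ShortExact :=
    { exact := ShortComplex.exact_of_f_is_kernel _ (kernelIsKernel _)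
      mono_f := inferInstanceAs (Mono (kernel.ι (t n)))
      epi_g := inferInstanceAs (Epi (t n)) }
  haveI : Coh.IsQCoh S.X₁ := QCohLib.isQCoh_kernel (t n)
  exact QCohLib.app_surjective_of_affine hS hU

include hF ht in
theorem subsingleton_HHon_limit (U : X.Opens) (hU : IsAffineOpen U) (p : ℕ) (hp : 0 < p) :
    Subsingleton (Coh.HHon X (limit (Functor.ofOpSequence t)) U p) := by
  obtain ⟨e⟩ := nonempty_shift_iso F t
  let G' := Functor.ofOpSequence (X := fun n => F (n + 1)) (fun n => t (n + 1))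
  obtain ⟨q, rfl⟩ : ∃ q, p = q + 1 := ⟨p - 1, by omega⟩
  haveI := FormalLimVanishLib.subsingleton_HU_limit G' (fun n => hF (n + 1))
    (fun n V hV => by
      rw [tr_ofOpSequence (fun n => F (n + 1))]
      exact surj_affine F t hF ht (n + 1) (Nat.le_add_left 1 n) hV)
    q (U.ι ''ᵁ ⊤) ((Scheme.Opens.ι_image_top U).symm ▸ hU)
  obtain ⟨e₁⟩ := QCohLib.nonempty_HU_restrict U.ι (limit G') (q + 1) ⊤
  have h : Subsingleton (Coh.HHon X (limit G') U (q + 1)) :=
    (QCohLib.subsingleton_H_iff ((QCohLib.toAbF (U : Scheme)).obj ((limit G').restrict U.ι)) _).mpr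
      e₁.toEquiv.subsingleton
  haveI := h
  haveI : Subsingleton ((Sheaf.functorH _ (q + 1)).obj
      ((SheafOfModules.toSheaf _).obj ((limit G').restrict U.ι))) := h
  exact ((Sheaf.functorH _ (q + 1)).mapIso ((SheafOfModules.toSheaf _).mapIso
    ((Scheme.Modules.restrictFunctor U.ι).mapIso e))).addCommGroupIsoToAddEquiv.toEquiv.symm.subsingleton

theorem isZero_homology_single (G : X.Modules) (m : ℤ) (hm : m ≠ 0) :
    IsZero ((DerivedCategory.homologyFunctor X.Modules m).obj ((DerivedCategory.singleFunctor X.Modules 0).obj G)) := by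
  rcases lt_or_gt_of_ne hm with h | h
  · exact DerivedCategory.isZero_of_isGE _ 0 m h
  · exact DerivedCategory.isZero_of_isLE _ 0 m h

/-- `1 - shift` on the product of the tower. -/
abbrev dF : ∏ᶜ F ⟶ ∏ᶜ F := Pi.lift fun n => Pi.π F n - Pi.π F (n + 1) ≫ t n

/-- `0 → lim F → ∏ F → ∏ F → 0`. -/
abbrev seq : ShortComplex X.Modules :=
  ShortComplex.mk (Pi.lift (f := F) fun n => pr F t n) (dF F t)
    (Pi.hom_ext _ _ fun n => by
      rw [Category.assoc, Pi.lift_π, Preadditive.comp_sub, Pi.lift_π, Pi.lift_π_assoc, π_tr, sub_self,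
        zero_comp])

theorem dF_app {U : X.Opens} (a : Γ(∏ᶜ F, U)) (n : ℕ) :
    (Pi.π F n).app U ((dF F t).app U a) = (Pi.π F n).app U a - (t n).app U ((Pi.π F (n + 1)).app U a) :=
  congrArg (fun ψ => ψ.app U a)
    (show dF F t ≫ Pi.π F n = Pi.π F n - Pi.π F (n + 1) ≫ t n from Pi.lift_π _ _)

include hF ht in
theorem seq_shortExact : (seq F t).ShortExact := by
  have hw : ∀ {W : X.Modules} (g : W ⟶ ∏ᶜ F), g ≫ dF F t = 0 →
      ∀ n, (g ≫ Pi.π F (n + 1)) ≫ t n = g ≫ Pi.π F n := fun g hg n => by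
    have h := congrArg (· ≫ Pi.π F n) hg
    simp only [Category.assoc, Pi.lift_π, Preadditive.comp_sub, zero_comp, sub_eq_zero] at h
    rw [Category.assoc]
    exact h.symm
  haveI : Mono (seq F t).f := ⟨fun g g' h => pr_ext fun n => by
    have := congrArg (· ≫ Pi.π F n) h
    simpa using this⟩
  haveI : Epi (seq F t).g := by
    refine QCohLib.epi_of_surjective_on_affines _ fun V s p hp => ?_
    obtain ⟨W, hW, hpW, hWV⟩ := Opens.isBasis_iff_nbhd.mp X.isBasis_affineOpens hp
    obtain ⟨a, ha⟩ := QRlimLib.exists_sub_eq 1 (fun n => Γ(F n, W)) (fun n => ((t n).app W).hom)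
      (fun n hn => surj_affine F t hF ht n hn hW)
      (fun n => (Pi.π F n).app W ((∏ᶜ F).presheaf.map (homOfLE hWV).op s))
    obtain ⟨x, hx⟩ := QRlimLib.sec_lift (productIsProduct F) a
    refine ⟨W, hWV, hpW, x, QRlimLib.sec_ext (productIsProduct F) fun n => ?_⟩
    refine (dF_app F t x n).trans ?_
    refine Eq.trans ?_ (ha n)
    exact congrArg₂ (fun a b => a - (t n).app W b) (hx n) (hx (n + 1))
  refine ShortComplex.ShortExact.mk' ?_ inferInstance inferInstance
  refine ShortComplex.exact_of_f_is_kernel _ (KernelFork.IsLimit.ofι' _ _ fun {W} g hg =>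
    ⟨liftSeq F t (fun n => g ≫ Pi.π F n) (hw g hg), Pi.hom_ext _ _ fun n => ?_⟩)
  rw [Category.assoc, Pi.lift_π, liftSeq_π]

include hF ht in
theorem isRlim [HasProduct fun n => DCoh.inD X (F n)] :
    DCoh.IsRlim (fun n => DCoh.inD X (F n)) (fun n => (DerivedCategory.singleFunctor X.Modules 0).map (t n))
      (DCoh.inD X (limit (Functor.ofOpSequence t))) := by
  let S0 := DerivedCategory.singleFunctor X.Modules 0
  let K := fun n => DCoh.inD X (F n)
  let θ : S0.obj (∏ᶜ F) ⟶ ∏ᶜ K := piComparison S0 F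
  have hq : ∀ n, DCoh.IsQCohD (K n) := fun n m => by
    rcases eq_or_ne m 0 with rfl | hm
    · haveI : Coh.IsQCoh ((𝟭 X.Modules).obj (F n)) := hF n
      exact QCohLib.isQCoh_of_iso
        ((DerivedCategory.singleFunctorCompHomologyFunctorIso X.Modules 0).app (F n)).symm
    · exact QCohLib.isQCoh_of_isZero (isZero_homology_single (F n) m hm)
  have hpc : ∀ m, IsIso (piComparison (DerivedCategory.homologyFunctor X.Modules m) K) := fun m =>
    QRlimLib.isIso_prodComparison K (fun _ => 0) (fun n => inferInstanceAs ((S0.obj (F n)).IsGE 0)) hq m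
  haveI hθi : IsIso θ := by
    rw [DerivedCategory.isIso_iff]
    intro m
    let H := DerivedCategory.homologyFunctor X.Modules m
    haveI := hpc m
    suffices IsIso (H.map θ ≫ piComparison H K) from IsIso.of_isIso_comp_right _ (piComparison H K)
    rcases eq_or_ne m 0 with rfl | hm
    · let e := DerivedCategory.singleFunctorCompHomologyFunctorIso X.Modules 0
      have he : H.map θ ≫ piComparison H K =
          (e.app (∏ᶜ F)).hom ≫ Limits.Pi.map (f := F) (g := fun n => H.obj (K n)) (fun n => (e.app (F n)).inv) := by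
        refine Pi.hom_ext _ _ fun n => ?_
        refine (Category.assoc _ _ _).trans ((congrArg (H.map θ ≫ ·) (piComparison_comp_π H K n)).trans ?_)
        refine ((H.map_comp θ (Pi.π K n)).symm.trans (H.congr_map (piComparison_comp_π S0 F n))).trans ?_
        refine Eq.trans ?_ (((e.app (∏ᶜ F)).hom ≫= Limits.Pi.map_π (f := F) (g := fun n => H.obj (K n))
          (fun n => (e.app (F n)).inv) n).symm.trans (Category.assoc _ _ _).symm)
        refine Eq.trans ?_ (e.hom.naturality_assoc (Pi.π F n) (e.inv.app (F n)))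
        exact ((congrArg ((S0 ⋙ H).map (Pi.π F n) ≫ ·) (e.hom_inv_id_app (F n))).trans (Category.comp_id _)).symm
      rw [he]
      infer_instance
    · have hz : ∀ G : X.Modules, IsZero (H.obj (S0.obj G)) := fun G =>
        isZero_homology_single G m hm
      refine ⟨0, (hz (∏ᶜ F)).eq_of_src _ _, Pi.hom_ext _ _ fun n => (hz (F n)).eq_of_tgt _ _⟩
  have hS := seq_shortExact F t hF ht
  have hθ : S0.map (dF F t) ≫ θ = θ ≫ Pi.lift (fun n => Pi.π K n - Pi.π K (n + 1) ≫ S0.map (t n)) := by
    refine Pi.hom_ext _ _ fun n => ?_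
    rw [Category.assoc, piComparison_comp_π, Category.assoc, Pi.lift_π, Preadditive.comp_sub,
      piComparison_comp_π, ← Category.assoc, piComparison_comp_π, ← S0.map_comp, ← S0.map_comp, ← S0.map_sub,
      Pi.lift_π]
  refine ⟨S0.map (seq F t).f ≫ θ, inv θ ≫ hS.singleδ, isomorphic_distinguished _ hS.singleTriangle_distinguished _ ?_⟩
  refine (Triangle.isoMk hS.singleTriangle (Triangle.mk (S0.map (seq F t).f ≫ θ)
    (Pi.lift fun n => Pi.π K n - Pi.π K (n + 1) ≫ S0.map (t n)) (inv θ ≫ hS.singleδ))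
    (Iso.refl _) (@asIso _ _ _ _ θ hθi) (@asIso _ _ _ _ θ hθi) ?_ ?_ ?_).symm
  · change S0.map (seq F t).f ≫ θ = 𝟙 _ ≫ S0.map (seq F t).f ≫ θ
    exact (Category.id_comp _).symm
  · exact hθ
  · change hS.singleδ ≫ (shiftFunctor (DCoh.D X) (1 : ℤ)).map (𝟙 _) = θ ≫ inv θ ≫ hS.singleδ
    rw [IsIso.hom_inv_id_assoc, CategoryTheory.Functor.map_id, Category.comp_id]

end RlimQcohLib
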